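import Cfsg.Agent.Lib.Helper28.TCCheck
import Cfsg.Agent.Lib.Helper28.Fi22Ord.Sub

set_option autoImplicit false
set_option linter.unusedVariables false

namespace Cfsg.Agent.Lib.Helper28.Fi22Ord.C120

open Cfsg.Agent.Lib.Helper28.Fi22Sub.P4 (Gen)
open Cfsg.Agent.Lib.Helper28.TC

noncomputable section

def hotE0_c0 : ℕ := 0xed74ea71e76ee46cecf8de68dc66e9f7d763d461e6f6cf5ee3f5ca5dc75ac458ddf3bf55dbf2bc54b951d6f0b54ed3efb04dac4bceedc9eba649a346c6eaa043c3e99b429840bee7bbe5933e8f3bb8e48c3a8938b4e2afe08436abdf7f37a5dc79327730a2db742f712d9fd99ad76c2b97d6682c92d3632761268ed28bd05c2488cf7eca83cc53205222502178c84c1d76c773c5481b70c467bf6bc13f173e193c1862bd60bc371c5bb9321251b44fb352b52c112a104bb136a547ae230c3da93ba83eaa1e0b1c0a1a0e180d31a32b9f299e110619941793229a1d961b950a0309050704108f08880687098901010082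
def hotE0 : ℕ := hotE0_c0
def coldE0_c0 : ℕ := 0x1ce0001c20001b60001ae00000000019e00019600000000018a00018200000000017600000000017200016600015e00000000015200000000014e00014200000000013600000000013200012a00000090060b00012200011600000000010a0000000001060000fe0000007a060b0000f60000ea0000000000e60000de0000006a060b0000d60000000000da62060f0000c60000be0000000000ba0000b200000054060b0000aa0000000000ae4c060f00009a00009600000046060b00008e00000040060b3e060f00007e00008600008200000000007200000034060b00006a0000002e060b2c060f00005a00006200005e00000000000000006e22060f00004620060b1e060f00000000004200003e00000018060b16060f00002e14060b12060f00000000002a0000260000360000320000000a060f0a060b00001608060b06060f00000004060f04060b00000a00001200000e00000000060f00060b000000000002000000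
def coldE0 : ℕ := coldE0_c0
def tfT0_c0 : ℕ := 0xe7c36ebef9f2f6c583adde972cd7e5538d3a1be6ee992b66a91174c2d105fe6c8f5d6372df0df6b79b5b62bed2e5962b2aaaae9264b467a39d2659f428239c8d10d437d00b182ef1d9b70459b268407b048b45a84ea45091a3111e3a149923254a02080c7070c20001
def tfT0 : ℕ := tfT0_c0

end

end Cfsg.Agent.Lib.Helper28.Fi22Ord.C120
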