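import Cfsg.Agent.Lib.Helper28.TCCheck
import Cfsg.Agent.Lib.Helper28.Fi22Ord.Sub

set_option autoImplicit false
set_option linter.unusedVariables false

namespace Cfsg.Agent.Lib.Helper28.Fi22Ord.C120

open Cfsg.Agent.Lib.Helper28.Fi22Sub.P4 (Gen)
open Cfsg.Agent.Lib.Helper28.TC

noncomputable section

def hotE1_c0 : ℕ := 0xee75eb72e86fedf8e16bdf69eaf7da65d864e7f6d260d062cc5de0f4c85bdef3c257c059bd54d9f1d7f0b750cfedb24dd1eead4faa4acbeca74cc7eaa245bfe79d42c1e89944963fbce6944190478d3ab6e3acdf8737b1e1a6dc8134a9de7d337a358fd2752fa1da98d66f2c9cd893d36a2995d56628642a62315f258cd15d2e592286ce562179c880cb7cc94d1e61bc4a1c74c65cb945196ec3421863bd69c065be3a1539145ebb3513331a58b855b62e102d164cb2280e49b0250d32a344ad41ab1f0a2c9f39a738a634a4160715082da01209279d249b0e040d051e97118f1491159205020c8b0d8c020104860183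
def hotE1 : ℕ := hotE1_c0
def coldE1_c0 : ℕ := 0x1d20001c60001bae604070001aa0001a2e0040700019200018eda040700017e00018600017200000000016ace040700015a00016200014e000000c4040700013eba040700013200000000013a00012600000000012eb20407000112a8040700010600000000010e0000fa00000000010200011a0000e60000009404070000da00000068061f0000ce0000000000ca0000d27404070000ba0000007e04070000ae00000052061f0000a200000000009e0000a60000c20000920000000000b60000860000000000826204070000003a061f0000764a040700006e00000032061f00006200000000005e4c040700000028061f00005200004e00000000004a0000660000001e061f00003e00005600000000003600000000003222040700000012061f00002610061f0000000000000c061f00001a00001e00000000002200000006061f00000e0000120000000a040702061f00000000000600061f000000000002000000000000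
def coldE1 : ℕ := coldE1_c0
def tfT1_c0 : ℕ := 0xe9c7777d5a3b64c7d6fe1b9ced72ad629f0df3f64cdb3a4eb97a6266839e1becb02339c579b60b6ceeb26945759aaaebd251513a9609282d43350479520ebb3715c18845de3f7a509ba2465bb51e5588d5e3112c5424f264a8c3073e20e1a0610b0e204408a1600282
def tfT1 : ℕ := tfT1_c0

end

end Cfsg.Agent.Lib.Helper28.Fi22Ord.C120
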