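import Cfsg.Agent.Lib.Helper28.TCCheck
import Cfsg.Agent.Lib.Helper28.Fi22Ord.Sub

set_option autoImplicit false
set_option linter.unusedVariables false

namespace Cfsg.Agent.Lib.Helper28.Fi22Ord.C120

open Cfsg.Agent.Lib.Helper28.Fi22Sub.P4 (Gen)
open Cfsg.Agent.Lib.Helper28.TC

noncomputable section

def hotE2_c0 : ℕ := 0xef76ec73eef8e56de26eebf7dd67db68d96ad562e1f4e4f5cd5ec95cd8f0c559daf1dcf2be55bb53ba52b85ad4efb34eaf4cae56cceca849c8eba447b7e3c4e99e439a41addfbde6953ebae5b9e48e3b8b398a3cb2e18536aee082407e33a7dd7b3da3db7630732e72319dd86d2b99d781cb672894d47ac889cf8dd15e248ad05a26572184cd5423511f7dca4e2771c475c6491b72c5461d43186cc2401a3d1666bf4db259b836135dba53b5311156b72f1250b4290f45ad260d48af3faa220b42ac200c3ca91b09190835a52ea030a21306289e1005259c1f9721990b031a951894060212900f8e03010a8a05870284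
def hotE2 : ℕ := hotE2_c0
def coldE2_c0 : ℕ := 0x1d60001cae6040b0001b20001b6e0040b00019a00019e0001a6000186d4041bd6040b00017600016ec4040b000162c8041bca040b00015200014a000146000166c0040b00013600012e000156b8041b00012200000000011a9e041bae040b00010a00010294040ba6041b0000f6000000a0040b0000ea0000e20000ee98041b0000d60000000000fe0000ca0000000000f28a040b0000be0000b60000c282041b0000aa00000066041b00009e00000062040b6e040b72041b00008e00000000009600008200000000008a00007a00000000009a58040b5c041b00006a00000000007200005e0000000000660000560000003a041b42041b00004a0000003e040b00004200000000004600000000003a30041b0000320000002c040b00002a00000000002e00000000002200001e0000001e041b00000000001600000000001200000012041b00000000000a000000000000000006000000000000000002000000000000000000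
def coldE2 : ℕ := coldE2_c0
def tfT2_c0 : ℕ := 0xebcbbecdbdb367d3879f4bb6f7d8e1c6a52a36774d97575c8d51b1688502f657b931ba70ef035befd95c79697ad615d556949e9c79d411cf4a826223d253438a6a21c2f04c957cc5b9272d083622cc72c18b948a562d4080e90fa10a7421b2c60114260478d0024303
def tfT2 : ℕ := tfT2_c0

end

end Cfsg.Agent.Lib.Helper28.Fi22Ord.C120
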