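import Cfsg.Agent.Lib.Helper28.TCCheck
import Cfsg.Agent.Lib.Helper28.Fi22Ord.Sub

set_option autoImplicit false
set_option linter.unusedVariables false

namespace Cfsg.Agent.Lib.Helper28.Fi22Ord.C120

open Cfsg.Agent.Lib.Helper28.Fi22Sub.P4 (Gen)
open Cfsg.Agent.Lib.Helper28.TC

noncomputable section

def hotE3_c0 : ℕ := 0xf077eff8e970e672e371e06ae5f5e2f4e8f6d664d363d15fce66cb65dff3c65bc35ac156cdeccaebd5efd2eeb64fb451b150d0edab4ba954a548c5e9c2e8a1449f469c45c0e79740a8dd923d913cb3e1b0e0b5e28838863a8335aade80347c32a4dc78319ed89bd7a0d9702d6e2f6b2a96d56929652791d390d2602685cd5b2387ce5822552082cc7fca4f1e7bc977c74b1d6dc2471a6fc3441941176ac168bf3b1564be5fbb381434125ab957b7301054b62b0f4eb34ab0270e240c46ae43ac210a40ab1d093aa837a5170733a414062fa12a9f269c0f04239b0c0320981c9608021693139104010e8d0b8b07880385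
def hotE3 : ℕ := hotE3_c0
def coldE3_c0 : ℕ := 0x1dae6040f0001be0001c60001c20001a6d6040fd4041fda040f00018e00018a00017a000196000192ce040f00016a000166000156b8041fb6042fc0040fbe041f00013a00014200013eba040f00012a00014e00011eae040fac041f00010e000116000112a8040f0000fe90042f0000f20000ee98041f96042f9a040f0000de0000e60000d292041f0000ce0000c60000000000c282041f80042f84040f0000b20000ba0000a67c041f0000a200009a00000074040f0000966a042f00008a6c041f00008600007e00000064042f0000760000005e040f00007254042f00006656041f00006200005a0000004e042f00005200000048041f00004e00004600000040042f00003e00000000003a00000036041f00003600002e0000002e042f00002600000000002200000024042f00001a00000000001600000000000018042f00000e00000000000a000000000000000006000000000000000002000000000000000000000000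
def coldE3 : ℕ := coldE3_c0
def tfT3_c0 : ℕ := 0xeddf7f1e1a7a73eb8f15ecb9395ab3575eaddb67509fb25538fa33c38b1333fb8f1de0bf85bb969759b1b6c2bd6b0b1729a8a1352a2966229a84fcb92764463904cc2305a03e28f5d1322e1b0f6a3992f1a2d6ab12a842748191854078d833408b9502488001828384
def tfT3 : ℕ := tfT3_c0

end

end Cfsg.Agent.Lib.Helper28.Fi22Ord.C120
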