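import Cfsg.Agent.Lib.Helper28.Fi22Ord.C120.Defs
import Cfsg.Agent.Lib.Helper28.TCOrbit

set_option autoImplicit false
set_option linter.unusedVariables false
set_option Elab.async false

namespace Cfsg.Agent.Lib.Helper28.Fi22Ord.C120

open Cfsg.Agent.Lib.Helper28.Fi22Sub.P4 (Gen)
open Cfsg.Agent.Lib.Helper28.TC

noncomputable section

def orbT_c0 : ℕ := 0x0
def orbT : ℕ := orbT_c0
def orbE (i : ℕ) : ℕ := look orbT 10 1023 i
/-- orbit certificate of the orbit number `j` with root `r` -/
def OC (j r : ℕ) : OrbCert where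
  inO := fun i => Nat.beq (Nat.land (orbE i) 1) j
  dep := fun i => Nat.land (Nat.shiftRight (orbE i) 1) 1
  opar := fun i => Nat.land (Nat.shiftRight (orbE i) 2) 127
  ogen := fun i => Nat.shiftRight (orbE i) 9
  root := r


end

end Cfsg.Agent.Lib.Helper28.Fi22Ord.C120
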